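import Groth.Agent.L16.ProjSpace.Sections
import Groth.Agent.L16.ProjSpace.AmpleIff
import Groth.Agent.L16.ProjSpace.TwistMul

/-!
# Morphisms between twisting sheaves are multiplications by forms
-/

set_option autoImplicit false
set_option backward.isDefEq.respectTransparency false
set_option maxHeartbeats 800000

universe u

open CategoryTheory CategoryTheory.Limits AlgebraicGeometry TopologicalSpace Opposite

noncomputable section

namespace Groth.L13.ProjDual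

open Groth.L16.ProjTwist (gen mulSect mulSect_apply sectN_ext smul_apply_val mk_mul_mk_swap smul_gen_surjective one_notMem)

variable {n : ℕ} {R : Type u} [CommRing R]

local notation "σ" => Fin (n + 1)
local notation "𝔓" => CohB1.polyGrading n R

/-- `p / 1`. -/
abbrev toLoc (x : ProjectiveSpectrum 𝔓) (p : MvPolynomial σ R) : Twist.Loc 𝔓 x :=
  Localization.mk p ⟨1, one_notMem 𝔓 x⟩

theorem mul_mem_twistAt {k : ℕ} (P : ↥(CohB1.polyGrading n R k)) {a b : ℤ} (h : a + (k : ℤ) = b)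
    {x : ProjectiveSpectrum 𝔓} {c : Twist.Loc 𝔓 x} (hc : c ∈ Twist.twistAt 𝔓 a x) :
    toLoc x P.1 * c ∈ Twist.twistAt 𝔓 b x := by
  induction hc using Submodule.span_induction with
  | mem c hc =>
    obtain ⟨i, j, q, s, hs, hij, rfl⟩ := hc
    refine Submodule.subset_span ⟨k + i, j, ⟨P.1 * q.1, SetLike.mul_mem_graded P.2 q.2⟩, s, hs,
      by push_cast; omega, ?_⟩
    rw [toLoc, Localization.mk_mul]
    congr 1
    exact Subtype.ext (one_mul _)
  | zero => rw [mul_zero]; exact zero_mem _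
  | add _ _ _ _ h h' => rw [mul_add]; exact add_mem h h'
  | smul q c _ hq =>
    rw [Algebra.smul_def, mul_left_comm, ← Algebra.smul_def]
    exact Submodule.smul_mem _ q hq

/-- Multiplication on sections. -/
def mulSec {k : ℕ} (P : ↥(CohB1.polyGrading n R k)) {a b : ℤ} (h : a + (k : ℤ) = b) (U : (Opens (ProjectiveSpectrum.top 𝔓))ᵒᵖ) :
    Twist.sectN (𝒜 := 𝔓) a U →+ Twist.sectN (𝒜 := 𝔓) b U where
  toFun f := ⟨fun x => ⟨toLoc x.1 P.1 * (f.1 x).1, mul_mem_twistAt P h (f.1 x).2⟩, fun x => by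
    obtain ⟨V, mV, iV, i, j, q, s, nin, c, w⟩ := f.2 x
    refine ⟨V, mV, iV, k + i, j, ⟨P.1 * q.1, SetLike.mul_mem_graded P.2 q.2⟩, s, nin, ?_, fun y => ?_⟩
    · rcases c with c | c
      · exact Or.inl (by push_cast; omega)
      · exact Or.inr (show P.1 * q.1 = 0 by rw [c, mul_zero])
    · show toLoc y.1 P.1 * (f.1 (iV y)).1 = _
      erw [w y]
      rw [Localization.mk_mul]
      congr 1
      exact Subtype.ext (one_mul _)⟩
  map_zero' := Subtype.ext (funext fun x => Subtype.ext (mul_zero _))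
  map_add' f g := Subtype.ext (funext fun x => Subtype.ext (mul_add _ _ _))

/-- Multiplication by a form. -/
def mulHom {k : ℕ} (P : ↥(CohB1.polyGrading n R k)) {a b : ℤ} (h : a + (k : ℤ) = b) : Twist.twistProjSpace n R a ⟶ Twist.twistProjSpace n R b :=
  ⟨PresheafOfModules.homMk
    { app := fun U => AddCommGrpCat.ofHom (mulSec P h U)
      naturality := fun _ _ _ => rfl }
    fun U q f => Subtype.ext (funext fun x => Subtype.ext (by
      show toLoc x.1 P.1 * ((q.1 x) • (f.1 x) : Twist.twistAt 𝔓 a x.1).1 =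
        ((q.1 x) • (⟨toLoc x.1 P.1 * (f.1 x).1, mul_mem_twistAt P h (f.1 x).2⟩ : Twist.twistAt 𝔓 b x.1)).1
      rw [Twist.coe_smul_val, Twist.coe_smul_val, mul_left_comm]))⟩

/-- Sections of `O(m)` and `O(m')` multiply to a section of `O(l)`, `l = m + m'`. -/
theorem exists_mul {m m' l : ℤ} (h : m + m' = l) {U : (Opens (ProjectiveSpectrum.top 𝔓))ᵒᵖ}
    (f : Twist.sectN (𝒜 := 𝔓) m U) (g : Twist.sectN (𝒜 := 𝔓) m' U) :
    ∃ s : Twist.sectN (𝒜 := 𝔓) l U, ∀ x, (s.1 x).1 = (f.1 x).1 * (g.1 x).1 := by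
  subst h
  exact ⟨mulSect f g, fun x => rfl⟩

/-- A morphism of twists on sections. -/
def appSec {a b : ℤ} (φ : Twist.twistProjSpace n R a ⟶ Twist.twistProjSpace n R b)
    (W : Opens (ProjectiveSpectrum.top 𝔓)) (f : Twist.sectN (𝒜 := 𝔓) a (op W)) : Twist.sectN (𝒜 := 𝔓) b (op W) :=
  φ.app (show (CohB1.ProjSpace n R).Opens from W) f

theorem appSec_res {a b : ℤ} (φ : Twist.twistProjSpace n R a ⟶ Twist.twistProjSpace n R b)
    {W V : Opens (ProjectiveSpectrum.top 𝔓)} (i : V ⟶ W) (f : Twist.sectN (𝒜 := 𝔓) a (op W)) :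
    appSec φ V (Twist.resN a i.op f) = Twist.resN b i.op (appSec φ W f) :=
  ConcreteCategory.congr_hom (φ.mapPresheaf.naturality i.op) f

theorem appSec_smul {a b : ℤ} (φ : Twist.twistProjSpace n R a ⟶ Twist.twistProjSpace n R b)
    (W : Opens (ProjectiveSpectrum.top 𝔓)) (c : Twist.O (𝒜 := 𝔓) (op W)) (f : Twist.sectN (𝒜 := 𝔓) a (op W)) :
    appSec φ W (c • f) = c • appSec φ W f :=
  Scheme.Modules.Hom.app_smul (U := (show (CohB1.ProjSpace n R).Opens from W)) φ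
    (show Γ(CohB1.ProjSpace n R, W) from c) f

theorem hom_ext_sec {a b : ℤ} {φ ψ : Twist.twistProjSpace n R a ⟶ Twist.twistProjSpace n R b}
    (h : ∀ W f, appSec φ W f = appSec ψ W f) : φ = ψ := by
  refine Scheme.Modules.hom_ext _ _ fun W => ?_
  ext f
  exact h W f

theorem appSec_mulHom {k : ℕ} (P : ↥(CohB1.polyGrading n R k)) {a b : ℤ} (h : a + (k : ℤ) = b)
    (W : Opens (ProjectiveSpectrum.top 𝔓)) (f : Twist.sectN (𝒜 := 𝔓) a (op W)) (x : W) :
    ((appSec (mulHom P h) W f).1 x).1 = toLoc x.1 P.1 * (f.1 x).1 := rfl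

/-- A morphism of twists is a pointwise multiplication by a global section of the difference twist. -/
theorem exists_sect {a b l : ℤ} (hl : a + l = b)
    (φ : Twist.twistProjSpace n R a ⟶ Twist.twistProjSpace n R b) :
    ∃ t : Twist.sectN (𝒜 := 𝔓) l (op ⊤), ∀ (W : Opens (ProjectiveSpectrum.top 𝔓))
      (f : Twist.sectN (𝒜 := 𝔓) a (op W)) (x : W),
      ((appSec φ W f).1 x).1 = (t.1 ⟨x.1, trivial⟩).1 * (f.1 x).1 := by
  classical
  choose i' j' a' b' hN hne using fun i : σ => Groth.L16.ProjTwist.exists_pair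
    (⟨MvPolynomial.X i, Groth.L16.ProjSpace.X_mem n R i⟩ : ↥(CohB1.polyGrading n R 1)) a
  have hN' : ∀ i, (i' i : ℤ) = j' i + a := fun i => by simpa using hN i
  let U : σ → Opens (ProjectiveSpectrum.top 𝔓) := fun i => Proj.basicOpen 𝔓 (MvPolynomial.X i)
  have hU : ∀ i (x : U i), (a' i).1 ∉ x.1.asHomogeneousIdeal ∧ (b' i).1 ∉ x.1.asHomogeneousIdeal :=
    fun i x => hne i x.1 ((Proj.mem_basicOpen _ _ _).1 x.2)
  let g : ∀ i, Twist.sectN (𝒜 := 𝔓) a (op (U i)) := fun i =>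
    gen (a' i) (b' i) (hN' i) (U i) fun x => (hU i x).2
  let g' : ∀ i, Twist.sectN (𝒜 := 𝔓) (-a) (op (U i)) := fun i =>
    gen (b' i) (a' i) (by have := hN' i; omega) (U i) fun x => (hU i x).1
  let φg : ∀ i, Twist.sectN (𝒜 := 𝔓) b (op (U i)) := fun i => appSec φ (U i) (g i)
  choose s hs using fun i => exists_mul (l := l) (show b + -a = l by omega) (φg i) (g' i)
  have hgg : ∀ i (x : U i), ((g' i).1 x).1 * ((g i).1 x).1 = 1 := fun i x =>
    mk_mul_mk_swap (a' i) (b' i) x.1 (hU i x).1 (hU i x).2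
  have key : ∀ (i : σ) (W : Opens (ProjectiveSpectrum.top 𝔓)) (hW : W ≤ U i)
      (f : Twist.sectN (𝒜 := 𝔓) a (op W)) (x : W),
      ((appSec φ W f).1 x).1 =
        ((s i).1 ⟨x.1, hW x.2⟩).1 * (f.1 x).1 := by
    intro i W hW f x
    obtain ⟨c, hc⟩ := smul_gen_surjective (a' i) (b' i) (hN' i) W
      (fun y => (hU i ⟨y.1, hW y.2⟩).1) (fun y => (hU i ⟨y.1, hW y.2⟩).2) f
    let gW : Twist.sectN (𝒜 := 𝔓) a (op W) :=
      gen (a' i) (b' i) (hN' i) W fun y => (hU i ⟨y.1, hW y.2⟩).2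
    subst hc
    have h2 : appSec φ W gW = Twist.resN b (homOfLE hW).op (φg i) := appSec_res φ (homOfLE hW) (g i)
    have e1 : ((appSec φ W (c • gW)).1 x).1 = (c.1 x).val * ((appSec φ W gW).1 x).1 :=
      (congrArg (fun q : Twist.sectN (𝒜 := 𝔓) b (op W) => (q.1 x).1) (appSec_smul φ W c gW)).trans
        (smul_apply_val c _ x)
    have e2 : ((appSec φ W gW).1 x).1 = ((φg i).1 ⟨x.1, hW x.2⟩).1 :=
      congrArg (fun q : Twist.sectN (𝒜 := 𝔓) b (op W) => (q.1 x).1) h2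
    have e3 : (((c • gW : Twist.sectN (𝒜 := 𝔓) a (op W))).1 x).1 = (c.1 x).val * ((g i).1 ⟨x.1, hW x.2⟩).1 :=
      smul_apply_val c gW x
    refine e1.trans (Eq.trans ?_ (congrArg₂ (· * ·) (hs i ⟨x.1, hW x.2⟩).symm e3.symm))
    rw [e2]
    linear_combination (-((c.1 x).val * ((φg i).1 ⟨x.1, hW x.2⟩).1)) * hgg i ⟨x.1, hW x.2⟩
  have hcons : ∀ (i j : σ) (x : ProjectiveSpectrum 𝔓) (hi : x ∈ U i) (hj : x ∈ U j),
      ((s i).1 ⟨x, hi⟩).1 = ((s j).1 ⟨x, hj⟩).1 := by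
    intro i j x hi hj
    let W := U i ⊓ U j
    let f : Twist.sectN (𝒜 := 𝔓) a (op W) := Twist.resN a (homOfLE (inf_le_left : W ≤ U i)).op (g i)
    have h1 := (key i W inf_le_left f ⟨x, hi, hj⟩).symm.trans (key j W inf_le_right f ⟨x, hi, hj⟩)
    have h2 : ((g' i).1 ⟨x, hi⟩).1 * (f.1 ⟨x, hi, hj⟩).1 = 1 := hgg i ⟨x, hi⟩
    linear_combination ((g' i).1 ⟨x, hi⟩).1 * h1 - (((s i).1 ⟨x, hi⟩).1 - ((s j).1 ⟨x, hj⟩).1) * h2
  choose ix hix using fun x : (⊤ : Opens (ProjectiveSpectrum.top 𝔓)) =>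
    Groth.L16.ProjSpace.exists_mem_basicOpen_X n R x.1
  refine ⟨⟨fun x => (s (ix x)).1 ⟨x.1, hix x⟩, fun x => ?_⟩, fun W f x => ?_⟩
  · obtain ⟨V, hV, iV, p, q, pa, ps, nin, hd, hw⟩ := (s (ix x)).2 ⟨x.1, hix x⟩
    refine ⟨V, hV, iV ≫ homOfLE le_top, p, q, pa, ps, nin, hd, fun y => ?_⟩
    exact (hcons _ (ix x) y.1 (hix ⟨y.1, trivial⟩) (leOfHom iV y.2)).trans (hw y)
  · let i := ix ⟨x.1, trivial⟩
    have hx : x.1 ∈ W ⊓ U i := ⟨x.2, hix ⟨x.1, trivial⟩⟩
    have h1 := key i (W ⊓ U i) inf_le_right (Twist.resN a (homOfLE (inf_le_left : W ⊓ U i ≤ W)).op f) ⟨x.1, hx⟩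
    have h2 := appSec_res φ (homOfLE (inf_le_left : W ⊓ U i ≤ W)) f
    have h3 := congrArg (fun q : Twist.sectN (𝒜 := 𝔓) b (op (W ⊓ U i)) => (q.1 ⟨x.1, hx⟩).1) h2
    exact (h3.symm.trans h1)

/-- Morphisms `O(a) → O(a + k)` are multiplications by forms of degree `k`. -/
theorem exists_eq_mulHom {a b : ℤ} {k : ℕ} (h : a + (k : ℤ) = b)
    (φ : Twist.twistProjSpace n R a ⟶ Twist.twistProjSpace n R b) : ∃ P : ↥(CohB1.polyGrading n R k), mulHom P h = φ := by
  obtain ⟨t, ht⟩ := exists_sect (l := (k : ℤ)) h φ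
  obtain ⟨P, rfl⟩ := Groth.L16.ProjSpace.polyToSection_surjective (n := n) (R := R) k t
  exact ⟨P, hom_ext_sec fun W f => sectN_ext fun x => ((appSec_mulHom P h W f x).trans (ht W f x).symm)⟩

/-- There are no non-zero morphisms to a smaller twist. -/
theorem eq_zero_of_lt (hn : 1 ≤ n) {a b : ℤ} (h : b < a)
    (φ : Twist.twistProjSpace n R a ⟶ Twist.twistProjSpace n R b) : φ = 0 := by
  obtain ⟨j, hj⟩ : ∃ j : ℕ, a + -(j : ℤ) = b := ⟨(a - b).toNat, by omega⟩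
  obtain ⟨t, ht⟩ := exists_sect hj φ
  have h0 := Groth.L16.ProjSpace.sectN_neg_eq_zero hn j (by omega) t
  refine hom_ext_sec fun W f => sectN_ext fun x => (ht W f x).trans ?_
  rw [h0]
  exact zero_mul _

end Groth.L13.ProjDual
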