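import Groth.Agent.L13.ProjDual.Mul
import Groth.Agent.L13.Canon.DualTwists
import Groth.Agent.L16.ProjSpace.TopCoh
import Groth.Agent.L16.ProjSpace.CohTwist
import Groth.Agent.L17.BC.CechNat
import Groth.Prelude.Def_Canon

/-!
# The perfect pairing on twists of projective space over any ring
-/

set_option autoImplicit false
set_option backward.isDefEq.respectTransparency false
set_option linter.style.haveILetI false
set_option maxHeartbeats 1000000

universe u

open CategoryTheory CategoryTheory.Limits AlgebraicGeometry TopologicalSpace Opposite MvPolynomial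

noncomputable section

namespace Groth.L13.ProjDual

open Groth.L16.ProjSpace
open Groth.L16.CohLinear (hmap hmap_comp hmap_id tm)

variable {n : ℕ} {R : Type u} [CommRing R]

local notation "σ" => Fin (n + 1)
local notation "𝔓" => CohB1.polyGrading n R
local notation "Pn" => CohB1.ProjSpace n R

/-- Exponents of degree `k` form a finite type. -/
local instance fintypeExpo (k : ℕ) : Fintype (Expo n k) :=
  Fintype.ofInjective (μOf n k) fun m m' h => Subtype.ext (Finsupp.ext fun i => by
    have := congrFun h i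
    simpa [μOf] using this)

/-- The representative of a product. -/
theorem rep_mul {k K : ℕ} (P : ↥(CohB1.polyGrading n R k)) {a b : ℤ} (h : a + (k : ℤ) = b)
    (W : Opens (ProjectiveSpectrum.top 𝔓)) (s : SectZ n R a W) {Q : MvPolynomial σ R} (hQ : Rep K s Q) :
    Rep K (show SectZ n R b W from appSec (mulHom P h) W s) (Q * P.1) := fun x => by
  rw [appSec_mulHom P h W s x, mul_assoc, hQ x, mul_comm Q P.1, map_mul, toLoc]
  exact congrArg (· * _) (Localization.mk_one_eq_algebraMap P.1)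

/-- The shift of exponents under multiplication by a monomial. -/
theorem expK_split {k K : ℕ} (m : Expo n k) (hK : (dTop n k).natAbs ≤ K) :
    expK K (μOf n k m) + m.1 = expK K (μOf n 0 ⟨0, map_zero _⟩) := Finsupp.ext fun i => by
  have := expK_μOf_lt n k m hK i
  have h1 := expo_lt n k m i
  simp only [Finsupp.add_apply, expK, μOf, Finsupp.coe_equivFunOnFinite_symm, Finsupp.zero_apply] at this ⊢
  omega

/-- Multiplication by `P` pairs the coefficients of a class with those of `P`. -/
theorem coeff_Φ_mul {k : ℕ} (P : ↥(CohB1.polyGrading n R k)) (h : dTop n k + (k : ℤ) = dTop n 0)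
    (x : (CC n R (dTop n k)).X n) :
    coeff 0 (Φ n 0 R ((Groth.L10.Cech.cxMap (π := 𝟭 _) (Y := stdU n R) (tm (mulHom P h)).hom).f n x)).1 =
      ∑ m : Expo n k, coeff m.1 (Φ n k R x).1 * coeff m.1 P.1 := by
  classical
  rw [coeff_Φ n 0 R _ ⟨0, map_zero _⟩]
  obtain ⟨K₀, hK₀, hr⟩ := exists_rep_ge (idTup n)
    (show SectZ n R (dTop n k) (Groth.L10.Cech.tup (stdU n R) (idTup n)) from Groth.L10.Cech.co (idTup n) x)
  obtain ⟨e, Q, he, hQ, hrep⟩ := hr (K₀ + (dTop n k).natAbs + (dTop n 0).natAbs) (by omega)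
  have hKk : (dTop n k).natAbs ≤ K₀ + (dTop n k).natAbs + (dTop n 0).natAbs := by omega
  have hK0 : (dTop n 0).natAbs ≤ K₀ + (dTop n k).natAbs + (dTop n 0).natAbs := by omega
  generalize K₀ + (dTop n k).natAbs + (dTop n 0).natAbs = K at he hrep hKk hK0
  simp only [vec]
  have hco := Groth.L10.Cech.co_cxMap (π := 𝟭 _) (Y := stdU n R) (tm (mulHom P h)).hom (idTup n) x
  refine (congrArg (fun s => cvec (idTup n) s (μOf n 0 ⟨0, map_zero _⟩)) hco).trans ?_
  refine (cvec_eq hK0 (e := e + k) (by simp only [dTop] at *; push_cast at *; omega) (SetLike.mul_mem_graded hQ P.2)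
    (rep_mul P h _ _ hrep) _).trans ?_
  have hP : P.1 = ∑ m : Expo n k, monomial m.1 (coeff m.1 P.1) := MvPolynomial.ext _ _ fun l => by
    simp only [coeff_sum, coeff_monomial]
    by_cases hl : l.degree = k
    · rw [Finset.sum_eq_single ⟨l, hl⟩ (fun m _ hm => if_neg fun h => hm (Subtype.ext h))
        (fun h => absurd (Finset.mem_univ _) h), if_pos rfl]
    · rw [P.2.coeff_eq_zero hl]
      exact (Finset.sum_eq_zero fun m _ => if_neg fun (h : m.1 = l) => hl (h ▸ m.2)).symm
  conv_lhs => rw [hP, Finset.mul_sum, coeff_sum]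
  refine Finset.sum_congr rfl fun m _ => ?_
  rw [← expK_split m hKk, coeff_mul_monomial, coeff_Φ]
  simp only [vec]
  rw [cvec_eq hKk he hQ hrep]

theorem isQCoh_O (d : ℤ) : Coh.IsQCoh (Twist.twistProjSpace n R d) :=
  Groth.L16.ProjTwist.isQCoh_twist (CohB1.polyGrading n R) d

/-- Top cohomology classes of negative twists, compatibly with multiplication by forms. -/
theorem exists_classes : ∃ E : ∀ k : ℕ,
      Coh.HH Pn (Twist.twistProjSpace n R (dTop n k)) n ≃ₗ[R] ↥(homogeneousSubmodule σ R k),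
    ∀ (k : ℕ) (P : ↥(CohB1.polyGrading n R k)) (h : dTop n k + (k : ℤ) = dTop n 0)
      (y : Coh.HH Pn (Twist.twistProjSpace n R (dTop n k)) n),
      coeff 0 (E 0 (hmap (mulHom P h) n y)).1 = ∑ m : Expo n k, coeff m.1 (E k y).1 * coeff m.1 P.1 := by
  obtain ⟨e, he⟩ := Groth.L17.BC.CechNat.exists_cechH_HH_natural (X := Pn) (stdU n R) (iSup_stdU n R)
    (fun p a => isAffineOpen_inf_stdU n R a) n
  let π' : ∀ k, ↑((CC n R (dTop n k)).cycles n) →+ Coh.HH Pn (Twist.twistProjSpace n R (dTop n k)) n :=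
    fun k => (e _ (isQCoh_O (dTop n k))).toAddMonoidHom.comp ((CC n R (dTop n k)).homologyπ n).hom
  let ψ : ∀ k, ↑((CC n R (dTop n k)).cycles n) →+ ↥(homogeneousSubmodule σ R k) := fun k =>
    AddMonoidHom.mk' (fun z => Φ n k R ((CC n R (dTop n k)).iCycles n z)) fun z w =>
      (congrArg (Φ n k R) (map_add _ z w)).trans (Φ_add n k R _ _)
  have πsurj : ∀ k, Function.Surjective (π' k) := fun k =>
    (e _ (isQCoh_O (dTop n k))).surjective.comp ((AddCommGrpCat.epi_iff_surjective _).1 inferInstance)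
  have nat : ∀ (a b : ℕ) (φ : Coh.toAb (Twist.twistProjSpace n R (dTop n a)) ⟶
      Coh.toAb (Twist.twistProjSpace n R (dTop n b))) (z : ↑((CC n R (dTop n a)).cycles n)),
      π' b (HomologicalComplex.cyclesMap (Groth.L10.Cech.cxMap (π := 𝟭 _) (Y := stdU n R) φ.hom) n z) =
        Sheaf.H.map φ n (π' a z) := fun a b φ z =>
    (congrArg (e _ (isQCoh_O (dTop n b))) congr($(HomologicalComplex.homologyπ_naturality
      (Groth.L10.Cech.cxMap (π := 𝟭 _) (Y := stdU n R) φ.hom) n) z).symm).trans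
      (he (isQCoh_O _) (isQCoh_O _) φ _)
  have hE : ∀ k, ∃ E : Coh.HH Pn (Twist.twistProjSpace n R (dTop n k)) n ≃ₗ[R]
      ↥(homogeneousSubmodule σ R k), ∀ z, E (π' k z) = ψ k z := by
    intro k
    have hker : (π' k).ker = (ψ k).ker := by
      ext z
      simp only [AddMonoidHom.mem_ker]
      exact ⟨fun h => Φ_of_homologyπ_eq_zero n k R z ((e _ _).injective (h.trans (map_zero _).symm)),
        fun h => (congrArg (e _ _) (homologyπ_eq_zero_of_Φ n k R z h)).trans (map_zero _)⟩
    obtain ⟨E, hE⟩ := Groth.L16.CechEndo.exists_addEquiv_of_ker_eq (π' k) (ψ k) (πsurj k)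
      (exists_cycle n k R) hker
    refine ⟨{ E with map_smul' := fun r x => ?_ }, hE⟩
    obtain ⟨z, rfl⟩ := πsurj k x
    let φ := Coh.smulAb (Twist.twistProjSpace n R (dTop n k)) (Coh.toGlobal (CohB1.ProjSpace.toSpec n R) r)
    show E (r • π' k z) = r • E (π' k z)
    rw [show r • π' k z = Sheaf.H.map φ n (π' k z) from rfl, ← nat k k φ z, hE, hE]
    refine (congrArg (Φ n k R) congr($(HomologicalComplex.cyclesMap_i
      (Groth.L10.Cech.cxMap (π := 𝟭 _) (Y := stdU n R) φ.hom) n) z)).trans (Subtype.ext ?_)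
    show ∑ m : Expo n k, _ = r • ∑ m : Expo n k, _
    rw [Finset.smul_sum]
    refine Finset.sum_congr rfl fun m _ => ?_
    rw [smul_monomial]
    exact congrArg _ (congrFun (vec_smulAb n R (dTop n k) _ r) _)
  choose E hE using hE
  refine ⟨E, fun k P h y => ?_⟩
  obtain ⟨z, rfl⟩ := πsurj k y
  rw [show hmap (mulHom P h) n (π' k z) = π' 0 _ from (nat k 0 (tm (mulHom P h)) z).symm, hE, hE]
  refine Eq.trans (congrArg (fun w : ↥(homogeneousSubmodule σ R 0) => coeff 0 w.1) ?_) (coeff_Φ_mul P h _)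
  exact congrArg (Φ n 0 R) congr($(HomologicalComplex.cyclesMap_i
    (Groth.L10.Cech.cxMap (π := 𝟭 _) (Y := stdU n R) (tm (mulHom P h)).hom) n) z)

/-- Transporting duality along an isomorphism. -/
theorem bijective_dualityMap_of_iso {X : Scheme.{u}} {A : Type u} [CommRing A]
    [X.Over (Spec (CommRingCat.of A))] {r : ℕ} {ω : X.Modules} (tr : Coh.HH X ω r →ₗ[A] A) {F G : X.Modules}
    (e : F ≅ G) (h : Function.Bijective (Canon.dualityMap A X r ω tr F)) :
    Function.Bijective (Canon.dualityMap A X r ω tr G) := by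
  refine ⟨fun φ φ' hφ => (cancel_epi e.hom).1 (h.1 (LinearMap.ext fun z => ?_)), fun ψ => ?_⟩
  · show tr (hmap (e.hom ≫ φ) r z) = tr (hmap (e.hom ≫ φ') r z)
    rw [hmap_comp, hmap_comp]
    exact LinearMap.congr_fun hφ (hmap e.hom r z)
  · obtain ⟨φ, hφ⟩ := h.2 (ψ ∘ₗ Canon.HHlin A e.hom r)
    refine ⟨e.inv ≫ φ, LinearMap.ext fun z => ?_⟩
    show tr (hmap (e.inv ≫ φ) r z) = ψ z
    rw [hmap_comp]
    refine (LinearMap.congr_fun hφ (hmap e.inv r z)).trans ?_
    show ψ (hmap e.hom r (hmap e.inv r z)) = ψ z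
    rw [← hmap_comp, e.inv_hom_id, hmap_id]

/-- On `P^0` all twists are isomorphic. -/
theorem nonempty_iso_of_zero (R : Type u) [CommRing R] (m m' : ℤ) :
    Nonempty (Twist.twistProjSpace 0 R m ≅ Twist.twistProjSpace 0 R m') := by
  suffices h : ∀ d : ℤ, Nonempty (Twist.twistProjSpace 0 R d ≅ Coh.structureModule (CohB1.ProjSpace 0 R)) from
    ⟨(h m).some ≪≫ (h m').some.symm⟩
  intro d
  obtain ⟨i, j, a, b, hN, hne⟩ := Groth.L16.ProjTwist.exists_pair
    (⟨MvPolynomial.X 0, X_mem 0 R 0⟩ : ↥(CohB1.polyGrading 0 R 1)) d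
  have hx : ∀ y : CohB1.ProjSpace 0 R, (MvPolynomial.X 0 : MvPolynomial (Fin (0 + 1)) R) ∉
      (show ProjectiveSpectrum (CohB1.polyGrading 0 R) from y).asHomogeneousIdeal := fun y => by
    obtain ⟨l, hl⟩ := exists_mem_basicOpen_X 0 R y
    obtain rfl : l = 0 := Fin.ext (by omega)
    exact (Proj.mem_basicOpen _ _ _).1 hl
  obtain ⟨e⟩ := Groth.L16.ProjTwist.nonempty_restrict_iso (N := d) a b (𝟙 (CohB1.ProjSpace 0 R))
    (fun y => (Proj.mem_basicOpen _ _ _).2 (hne _ (hx y)).1) (fun y => (Proj.mem_basicOpen _ _ _).2 (hne _ (hx y)).2)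
    (by simpa using hN)
  exact ⟨(Scheme.Modules.restrictFunctorId.app _).symm ≪≫ e⟩

/-- The duality maps on all twists are bijective for a suitable trace. -/
theorem exists_trace_twists : ∃ t : Coh.HH Pn (Twist.twistProjSpace n R (dTop n 0)) n ≃ₗ[R] R,
    ∀ m : ℤ, Function.Bijective (Canon.dualityMap R Pn n (Twist.twistProjSpace n R (dTop n 0)) t.toLinearMap
      (Twist.twistProjSpace n R m)) := by
  classical
  obtain ⟨E, hE⟩ := exists_classes (n := n) (R := R)
  let c : ↥(homogeneousSubmodule σ R 0) ≃ₗ[R] R :=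
    { toFun := fun p => coeff 0 p.1
      map_add' := fun p q => coeff_add _ _ _
      map_smul' := fun r p => coeff_smul _ _ _
      invFun := fun r => ⟨MvPolynomial.C r, isHomogeneous_C _ r⟩
      left_inv := fun p => Subtype.ext (totalDegree_eq_zero_iff_eq_C.1
        (Nat.le_zero.1 ((mem_homogeneousSubmodule 0 p.1).1 p.2).totalDegree_le)).symm
      right_inv := fun r => coeff_zero_C r }
  let t := (E 0).trans c
  have hmain : ∀ k : ℕ, Function.Bijective (Canon.dualityMap R Pn n (Twist.twistProjSpace n R (dTop n 0))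
      t.toLinearMap (Twist.twistProjSpace n R (dTop n k))) := by
    intro k
    have hd : dTop n k + (k : ℤ) = dTop n 0 := by simp [dTop]
    let mono : Expo n k → ↥(homogeneousSubmodule σ R k) := fun m =>
      ⟨monomial m.1 1, isHomogeneous_monomial _ m.2⟩
    have hsum : ∀ p : ↥(homogeneousSubmodule σ R k), p = ∑ m : Expo n k, coeff m.1 p.1 • mono m := fun p => by
      refine Subtype.ext (MvPolynomial.ext _ _ fun l => ?_)
      simp only [Submodule.coe_sum, Submodule.coe_smul, coeff_sum, coeff_smul, mono, coeff_monomial,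
        smul_eq_mul, mul_ite, mul_one, mul_zero]
      by_cases hl : l.degree = k
      · rw [Finset.sum_eq_single ⟨l, hl⟩ (fun m _ hm => if_neg fun h => hm (Subtype.ext h))
          (fun h => absurd (Finset.mem_univ _) h), if_pos rfl]
      · rw [p.2.coeff_eq_zero hl]
        exact (Finset.sum_eq_zero fun m _ => if_neg fun (h : m.1 = l) => hl (h ▸ m.2)).symm
    have hval : ∀ (P : ↥(CohB1.polyGrading n R k)) (y : Coh.HH Pn (Twist.twistProjSpace n R (dTop n k)) n),
        Canon.dualityMap R Pn n _ t.toLinearMap _ (mulHom P hd) y =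
          ∑ m : Expo n k, coeff m.1 (E k y).1 * coeff m.1 P.1 := fun P y => hE k P hd y
    have hcoef : ∀ (m : Expo n k) (P : ↥(CohB1.polyGrading n R k)),
        Canon.dualityMap R Pn n _ t.toLinearMap _ (mulHom P hd) ((E k).symm (mono m)) = coeff m.1 P.1 := fun m P => by
      rw [hval, LinearEquiv.apply_symm_apply]
      simp only [mono, coeff_monomial, ite_mul, one_mul, zero_mul]
      rw [Finset.sum_eq_single m (fun l _ hl => if_neg fun h => hl (Subtype.ext h.symm))
        (fun h => absurd (Finset.mem_univ _) h), if_pos rfl]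
    refine ⟨fun φ φ' hφ => ?_, fun ψ => ?_⟩
    · obtain ⟨P, rfl⟩ := exists_eq_mulHom hd φ
      obtain ⟨P', rfl⟩ := exists_eq_mulHom hd φ'
      obtain rfl : P = P' := Subtype.ext (MvPolynomial.ext _ _ fun l => by
        by_cases hl : l.degree = k
        · exact (hcoef ⟨l, hl⟩ P).symm.trans ((LinearMap.congr_fun hφ _).trans (hcoef ⟨l, hl⟩ P'))
        · rw [P.2.coeff_eq_zero hl, P'.2.coeff_eq_zero hl])
      rfl
    · let P : ↥(CohB1.polyGrading n R k) :=
        (∑ m : Expo n k, ψ ((E k).symm (mono m)) • mono m : ↥(homogeneousSubmodule σ R k))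
      refine ⟨mulHom P hd, LinearMap.ext fun y => ?_⟩
      have hP : ∀ m : Expo n k, coeff m.1 P.1 = ψ ((E k).symm (mono m)) := fun m => by
        simp only [P, Submodule.coe_sum, Submodule.coe_smul, coeff_sum, coeff_smul, mono, coeff_monomial,
          smul_eq_mul, mul_ite, mul_one, mul_zero]
        rw [Finset.sum_eq_single m (fun l _ hl => if_neg fun h => hl (Subtype.ext h))
          (fun h => absurd (Finset.mem_univ _) h), if_pos rfl]
      rw [hval]
      conv_rhs => rw [← (E k).symm_apply_apply y, hsum (E k y), map_sum, map_sum]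
      refine Finset.sum_congr rfl fun m _ => ?_
      rw [hP, map_smul, map_smul, smul_eq_mul]
  refine ⟨t, fun m => ?_⟩
  by_cases hm : m ≤ -((n : ℤ) + 1)
  · obtain ⟨k, rfl⟩ : ∃ k : ℕ, m = dTop n k := ⟨(-(m + n + 1)).toNat, by simp only [dTop]; omega⟩
    exact hmain k
  by_cases hn : n = 0
  · subst hn
    obtain ⟨e⟩ := nonempty_iso_of_zero R (dTop 0 0) m
    exact bijective_dualityMap_of_iso _ e (hmain 0)
  haveI : Subsingleton (Coh.HH Pn (Twist.twistProjSpace n R m) n) :=
    subsingleton_HH_twist n R m n (fun h => hn h.1) fun h => hm h.2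
  refine ⟨fun φ φ' _ => ?_, fun ψ => ⟨0, LinearMap.ext fun x => ?_⟩⟩
  · rw [eq_zero_of_lt (Nat.pos_of_ne_zero hn) (by simp only [dTop]; omega) φ,
      eq_zero_of_lt (Nat.pos_of_ne_zero hn) (by simp only [dTop]; omega) φ']
  · rw [Subsingleton.elim x 0, map_zero, map_zero]

/-- `(O(-d-1), tr)` is a dualizing pair on `P^d_R`. -/
theorem exists_isRDualOver (d : ℕ) : ∃ t : Coh.HH (CohB1.ProjSpace d R) (Twist.twistProjSpace d R (-((d : ℤ) + 1))) d ≃ₗ[R] R,
    Canon.IsRDualOver R (CohB1.ProjSpace d R) d (Twist.twistProjSpace d R (-((d : ℤ) + 1))) t.toLinearMap := by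
  rw [show -((d : ℤ) + 1) = dTop d 0 by simp [dTop]]
  obtain ⟨t, ht⟩ := exists_trace_twists (n := d) (R := R)
  haveI : IsProper (CohB1.ProjSpace.toSpec d R) := Groth.L16.ProjSpace.isProper_toSpec d R
  haveI : CompactSpace (CohB1.ProjSpace d R) := QuasiCompact.compactSpace_of_compactSpace (CohB1.ProjSpace.toSpec d R)
  haveI : (CohB1.ProjSpace d R).IsSeparated := ⟨by
    rw [← terminal.comp_from (CohB1.ProjSpace.toSpec d R)]; infer_instance⟩
  refine ⟨t, Groth.L13.DualTwists.isRDualOver_of_twists' R t.toLinearMap (𝟙 (CohB1.ProjSpace d R))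
    (fun M hM => haveI := hM; subsingleton_HH_of_lt d R M (d + 1) (Nat.lt_succ_self d)) (isQCoh_O _) fun m => ?_⟩
  exact bijective_dualityMap_of_iso _ ((Scheme.Modules.pullbackId _).app _).symm (ht m)

end Groth.L13.ProjDual
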