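import Groth.Agent.L22.Reg.CounitT
import Groth.Agent.L16.QcqsPush
import Groth.Agent.L17.Duality

/-!
# Quasi-coherent modules on `P^n_Y` are quotients of negatively twisted pullbacks
-/

set_option autoImplicit false
set_option linter.style.haveILetI false
set_option backward.isDefEq.respectTransparency.types false
set_option backward.isDefEq.respectTransparency false
set_option maxHeartbeats 800000

universe u

open CategoryTheory CategoryTheory.Limits AlgebraicGeometry TopologicalSpace Opposite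

noncomputable section

namespace Groth.L13.SerreRel

open Groth.L00.Tensor (tensorMap tensorIso tensorAssoc tensorComm tensorRightF)
open Groth.L22.Reg (cI cI_natural twMap)
open Groth.L18.Ample (tw)

variable {X : Scheme.{u}} {L E : X.Modules} (e : CohB1.tensorMod L E ≅ Coh.structureModule X)

/-- Iterated twists by `E`, innermost first. -/
def untw (E : X.Modules) : ℕ → X.Modules → X.Modules
  | 0, B => B
  | k + 1, B => untw E k (CohB1.tensorMod B E)

/-- Moving twists across a morphism. -/
def lift : ∀ (k : ℕ) {B A : X.Modules}, (B ⟶ tw A L k) → (untw E k B ⟶ A)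
  | 0, _, _, φ => φ
  | k + 1, _, A, φ => lift k ((tensorRightF E).map φ ≫ (cI e (tw A L k)).hom)

theorem lift_comp : ∀ (k : ℕ) {B A G : X.Modules} (φ : B ⟶ tw A L k) (g : A ⟶ G),
    lift e k φ ≫ g = lift e k (φ ≫ twMap g L k)
  | 0, _, _, _, _, _ => rfl
  | k + 1, _, A, _, φ, g => by
    show lift e k ((tensorRightF E).map φ ≫ (cI e _).hom) ≫ g =
      lift e k ((tensorRightF E).map (φ ≫ tensorMap (twMap g L k) (𝟙 L)) ≫ (cI e _).hom)
    rw [lift_comp k _ g, Category.assoc, Functor.map_comp, Category.assoc, cI_natural e (twMap g L k)]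

theorem map_tensorRight_injective (e : CohB1.tensorMod L E ≅ Coh.structureModule X) {A B : X.Modules}
    {f g : A ⟶ B} (h : (tensorRightF L).map f = (tensorRightF L).map g) : f = g := by
  have h1 := congrArg (fun w => (tensorRightF E).map w ≫ (cI e B).hom) h
  have hn : ∀ w : A ⟶ B, (tensorRightF E).map ((tensorRightF L).map w) ≫ (cI e B).hom = (cI e A).hom ≫ w :=
    fun w => cI_natural e w
  simp only [hn] at h1
  exact (cancel_epi _).1 h1

theorem lift_injective (e' : CohB1.tensorMod E L ≅ Coh.structureModule X) :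
    ∀ (k : ℕ) {B A : X.Modules} {φ ψ : B ⟶ tw A L k}, lift e k φ = lift e k ψ → φ = ψ
  | 0, _, _, _, _, h => h
  | k + 1, _, A, _, _, h =>
    map_tensorRight_injective e' ((cancel_mono (cI e (tw A L k)).hom).1 (lift_injective e' k h))

theorem nonempty_untw_iso (O : ℕ → X.Modules) (h0 : Nonempty (O 0 ≅ Coh.structureModule X))
    (hs : ∀ k, Nonempty (CohB1.tensorMod E (O k) ≅ O (k + 1))) :
    ∀ (k : ℕ) (B : X.Modules), Nonempty (untw E k B ≅ CohB1.tensorMod B (O k))
  | 0, B => ⟨(Groth.L00.Tensor.tensorUnitRight B).symm ≪≫ tensorIso (Iso.refl B) h0.some.symm⟩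
  | k + 1, B => by
    obtain ⟨i⟩ := nonempty_untw_iso O h0 hs k (CohB1.tensorMod B E)
    exact ⟨i ≪≫ tensorAssoc B E (O k) ≪≫ tensorIso (Iso.refl B) (hs k).some⟩

end Groth.L13.SerreRel

namespace Groth.L13.SerreRel

open Groth.L00.Tensor (tensorMap tensorIso tensorAssoc tensorComm tensorRightF)
open Groth.L22.Reg (cI cI_natural twMap)
open Groth.L18.Ample (tw)

/-- Every quasi-coherent module on `P^n_Y` is a quotient of `∐ f^* G_j (-m_j)` with all `m_j > 0`. -/
theorem exists_epi (Y : Scheme.{u}) (n : ℕ) (F : (CohB1.ProjSpaceOver n Y).Modules) (hF : Coh.IsQCoh F) :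
    ∃ (ι : Type u) (G : ι → Y.Modules) (m : ι → ℕ)
      (p : (∐ fun j => CohB1.tensorMod ((Scheme.Modules.pullback (CohB1.ProjSpaceOver.toBase n Y)).obj (G j))
        (Twist.twistOver n Y (-((m j : ℕ) : ℤ)))) ⟶ F),
      (∀ j, Coh.IsQCoh (G j)) ∧ (∀ j, 0 < m j) ∧ Epi p := by
  let f := CohB1.ProjSpaceOver.toBase n Y
  let L := Twist.twistOver n Y 1
  let E := Twist.twistOver n Y (-1)
  haveI : IsProper f := Groth.L16.ProjSpace.isProper_toBase n Y
  have hL : PicF.IsInvertible L := Groth.L17.Strat.isInvertible_twistOver n Y 1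
  have hLq : Coh.IsQCoh L := Groth.L21.Extend.isQCoh_of_isInvertible hL
  obtain ⟨z⟩ := Groth.L22.Reg.nonempty_OT_zero n Y
  obtain ⟨e1⟩ := Groth.L22.Reg.nonempty_OT_add n Y (show (1 : ℤ) + -1 = 0 by norm_num)
  let e : CohB1.tensorMod L E ≅ Coh.structureModule _ := e1 ≪≫ z
  let e' : CohB1.tensorMod E L ≅ Coh.structureModule _ := tensorComm E L ≪≫ e
  haveI := hF
  haveI := hLq
  let F₁ := CohB1.tensorMod F L
  haveI : Coh.IsQCoh F₁ := Groth.L00.Tensor.isQCoh_tensorMod _ _
  have htw : ∀ k, Coh.IsQCoh (tw F₁ L k) := by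
    intro k
    induction k with
    | zero => exact inferInstanceAs (Coh.IsQCoh F₁)
    | succ k ih => haveI := ih; exact Groth.L00.Tensor.isQCoh_tensorMod (tw F₁ L k) L
  let adj := Scheme.Modules.pullbackPushforwardAdjunction f
  let G : ULift.{u} ℕ → Y.Modules := fun j => (Scheme.Modules.pushforward f).obj (tw F₁ L j.down)
  let O : ℕ → (CohB1.ProjSpaceOver n Y).Modules := fun k => Twist.twistOver n Y (-(k : ℤ))
  have hs : ∀ k, Nonempty (CohB1.tensorMod E (O k) ≅ O (k + 1)) := fun k =>
    Groth.L22.Reg.nonempty_OT_add n Y (by push_cast; ring)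
  choose I hI using fun j : ULift.{u} ℕ => (⟨(nonempty_untw_iso (E := E) O ⟨by simpa [O] using z⟩ hs j.down
    ((Scheme.Modules.pullback f).obj (G j))).some, trivial⟩ : ∃ _i : untw E j.down _ ≅ CohB1.tensorMod
      ((Scheme.Modules.pullback f).obj (G j)) (O j.down), True)
  let q : ∀ j : ULift.{u} ℕ, CohB1.tensorMod (untw E j.down ((Scheme.Modules.pullback f).obj (G j))) E ⟶ F :=
    fun j => (tensorRightF E).map (lift e j.down (adj.counit.app (tw F₁ L j.down))) ≫ (cI e F).hom
  let a : ∀ j : ULift.{u} ℕ, CohB1.tensorMod ((Scheme.Modules.pullback f).obj (G j))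
      (Twist.twistOver n Y (-(((j.down + 1 : ℕ)) : ℤ))) ≅
        CohB1.tensorMod (untw E j.down ((Scheme.Modules.pullback f).obj (G j))) E := fun j =>
    tensorIso (Iso.refl _) ((hs j.down).some.symm ≪≫ tensorComm E (O j.down)) ≪≫
      (tensorAssoc _ (O j.down) E).symm ≪≫ tensorIso (I j).symm (Iso.refl E)
  refine ⟨ULift.{u} ℕ, G, fun j => j.down + 1, Sigma.desc fun j => (a j).hom ≫ q j,
    fun j => ?_, fun j => Nat.succ_pos _, Preadditive.epi_of_cancel_zero _ fun {C} c hc => ?_⟩
  · haveI := htw j.down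
    exact Groth.L16.QcqsPush.isQCoh_push (tw F₁ L j.down) f
  have hq : ∀ j, q j ≫ c = 0 := fun j => by
    have h := congrArg (Sigma.ι _ j ≫ ·) hc
    simp only [Sigma.ι_desc_assoc, comp_zero, Category.assoc] at h
    exact (cancel_epi _).1 (h.trans comp_zero.symm)
  let c₁ := (tensorRightF L).map c
  have hk : ∀ k, (Scheme.Modules.pushforward f).map (twMap c₁ L k) = 0 := by
    intro k
    have h1 := hq ⟨k⟩
    simp only [q, Category.assoc, ← cI_natural e c] at h1
    rw [← Category.assoc, ← Functor.map_comp] at h1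
    have h2 : lift e k (adj.counit.app (tw F₁ L k)) ≫ c₁ = 0 := by
      refine map_tensorRight_injective e' ?_
      refine (cancel_mono (cI e C).hom).1 ?_
      rw [Functor.map_zero, zero_comp]
      exact h1
    rw [lift_comp] at h2
    have h3 : adj.counit.app (tw F₁ L k) ≫ twMap c₁ L k = 0 := by
      refine lift_injective e e' k (h2.trans ?_)
      have h0 := lift_comp e k (0 : (Scheme.Modules.pullback f).obj (G ⟨k⟩) ⟶ tw F₁ L k) (0 : F₁ ⟶ CohB1.tensorMod C L)
      rw [comp_zero, zero_comp] at h0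
      exact h0
    have h4 : adj.homEquiv _ _ (adj.counit.app (tw F₁ L k) ≫ twMap c₁ L k) =
        (Scheme.Modules.pushforward f).map (twMap c₁ L k) := by
      rw [Adjunction.homEquiv_unit, Functor.map_comp, ← Category.assoc]
      erw [adj.right_triangle_components]
      exact Category.id_comp _
    rw [← h4, h3, Adjunction.homEquiv_unit, Functor.map_zero, comp_zero]
  haveI : Coh.IsQCoh ((tensorRightF L).obj F) := inferInstanceAs (Coh.IsQCoh F₁)
  have h5 : c₁ = 0 := Groth.L22.Reg.eq_zero_of_twists f c₁ hL (Groth.L22.Reg.exists_section_chart n Y) hk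
  exact map_tensorRight_injective e (h5.trans (Functor.map_zero _ _ _).symm)

end Groth.L13.SerreRel
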